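import Groth.Agent.H18PBC.DegreeZero
import Groth.Agent.H18Et.BaseChangeSh
import Groth.Agent.H18Et.PushClosed

/-!
# The degree zero base change map of sheaves of sets for a proper morphism
-/

set_option autoImplicit false
set_option linter.style.haveILetI false
set_option linter.unusedSectionVars false
set_option backward.isDefEq.respectTransparency false
set_option backward.isDefEq.respectTransparency.types false

universe u

open CategoryTheory CategoryTheory.Limits AlgebraicGeometry Opposite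
open scoped Groth.Agent.H18Et

namespace Groth.Agent.H11PBCSet

open H15Site.SetDescent H18Et H18PBC H18PBC.Fibre H18PBC.DegZero

section Res

variable {X Y : Scheme.{u}} {Ω : Type u} [Field Ω] [IsSepClosed Ω] (f : X ⟶ Y)
  (ξ : Spec (CommRingCat.of Ω) ⟶ Y) (G : EtDesc.Sh X)

/-- Restriction to the geometric fibre, as a map. -/
noncomputable def resSHom {V : Y.Etale} (z : (Scheme.pointSmallEtale ξ).fiber.obj V) :
    ((EtDesc.pushSh f).obj G).obj.obj (op V) ⟶
      ((EtDesc.pullSh (pullback.fst f ξ)).obj G).obj.obj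
        (op ((EtCoh.bc (pullback.fst f ξ)).obj (EtCoh.top X))) :=
  ((EtDesc.adjSh (pullback.fst f ξ)).unit.app G).hom.app (op ((EtCoh.bc f).obj V)) ≫
    ((EtDesc.pullSh (pullback.fst f ξ)).obj G).obj.map (jz f ξ z).op

theorem resSHom_apply {V : Y.Etale} (z : (Scheme.pointSmallEtale ξ).fiber.obj V)
    (s : G.obj.obj (op ((EtCoh.bc f).obj V))) : resSHom f ξ G z s = resS f ξ G z s := rfl

theorem resSHom_w {V V' : Y.Etale} (g : V' ⟶ V) (z : (Scheme.pointSmallEtale ξ).fiber.obj V') :
    ((EtDesc.pushSh f).obj G).obj.map g.op ≫ resSHom f ξ G z =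
      resSHom f ξ G ((Scheme.pointSmallEtale ξ).fiber.map g z) := by
  show G.obj.map ((EtCoh.bc f).map g).op ≫ _ ≫ _ = _ ≫ _
  refine (Category.assoc _ _ _).symm.trans ((congrArg (· ≫ _)
    (((EtDesc.adjSh (pullback.fst f ξ)).unit.app G).hom.naturality ((EtCoh.bc f).map g).op)).trans ?_)
  refine (Category.assoc _ _ _).trans (congrArg (_ ≫ ·) ?_)
  refine ((EtDesc.pullSh (pullback.fst f ξ)).obj G).obj.map_comp _ _ |>.symm.trans ?_
  exact congrArg ((EtDesc.pullSh (pullback.fst f ξ)).obj G).obj.map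
    ((op_comp).symm.trans (congrArg Quiver.Hom.op (jz_map f ξ g z)))

/-- The canonical map from the stalk to the sections on the geometric fibre. -/
noncomputable def stalkResS :
    ((Scheme.pointSmallEtale ξ).sheafFiber (A := Type (u + 1))).obj ((EtDesc.pushSh f).obj G) ⟶
      ((EtDesc.pullSh (pullback.fst f ξ)).obj G).obj.obj
        (op ((EtCoh.bc (pullback.fst f ξ)).obj (EtCoh.top X))) :=
  (Scheme.pointSmallEtale ξ).presheafFiberDesc (fun _ z => resSHom f ξ G z) fun _ _ g z => resSHom_w f ξ G g z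

theorem stalkResS_germ {V : Y.Etale} (z : (Scheme.pointSmallEtale ξ).fiber.obj V)
    (s : G.obj.obj (op ((EtCoh.bc f).obj V))) :
    stalkResS f ξ G (germ ξ ((EtDesc.pushSh f).obj G) V z s) = resS f ξ G z s :=
  ConcreteCategory.congr_hom ((Scheme.pointSmallEtale ξ).toPresheafFiber_presheafFiberDesc
    (P := ((EtDesc.pushSh f).obj G).obj) (fun _ z => resSHom f ξ G z)
    (fun _ _ g z => resSHom_w f ξ G g z) V z) s

theorem germ_index_eq {V : Y.Etale} (z : (Scheme.pointSmallEtale ξ).fiber.obj V) (i : Nbhd.NI ξ)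
    (g : (Nbhd.nb ξ).obj i ⟶ V) (hg : (Scheme.pointSmallEtale ξ).fiber.map g (Nbhd.zb ξ i) = z)
    (s : ((EtDesc.pushSh f).obj G).obj.obj (op V)) :
    germ ξ ((EtDesc.pushSh f).obj G) ((Nbhd.nb ξ).obj i) (Nbhd.zb ξ i)
        (((EtDesc.pushSh f).obj G).obj.map g.op s) = germ ξ ((EtDesc.pushSh f).obj G) V z s := by
  refine ((Scheme.pointSmallEtale ξ).toPresheafFiber_w_apply g (Nbhd.zb ξ i)
    ((EtDesc.pushSh f).obj G).obj s).trans ?_
  exact congrArg (fun y => germ ξ ((EtDesc.pushSh f).obj G) V y s) hg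

variable [IsProper f]

theorem stalkResS_bijective : Function.Bijective (stalkResS f ξ G) := by
  obtain ⟨hs, hi⟩ := resS_bijective f ξ G
  refine ⟨fun p q hpq => ?_, fun σ => ?_⟩
  · obtain ⟨V, z, s, rfl⟩ := germ_surjective ξ ((EtDesc.pushSh f).obj G) p
    obtain ⟨W, w, t, rfl⟩ := germ_surjective ξ ((EtDesc.pushSh f).obj G) q
    obtain ⟨⟨C, c⟩, ⟨a, ha⟩, ⟨b, hb⟩, -⟩ := IsCofilteredOrEmpty.cone_objs
      (C := (Scheme.pointSmallEtale ξ).fiber.Elements) ⟨V, z⟩ ⟨W, w⟩
    dsimp at a b ha hb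
    obtain ⟨i, ⟨g, hg⟩⟩ := Nbhd.exists_index ξ ⟨C, c⟩
    dsimp at g hg
    have hga : (Scheme.pointSmallEtale ξ).fiber.map (g ≫ a) (Nbhd.zb ξ i) = z := by
      exact (Functor.map_comp_apply _ _ _ _).trans ((congrArg _ hg).trans ha)
    have hgb : (Scheme.pointSmallEtale ξ).fiber.map (g ≫ b) (Nbhd.zb ξ i) = w := by
      exact (Functor.map_comp_apply _ _ _ _).trans ((congrArg _ hg).trans hb)
    have es := germ_index_eq f ξ G z i (g ≫ a) hga s
    have et := germ_index_eq f ξ G w i (g ≫ b) hgb t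
    rw [← es, ← et] at hpq ⊢
    have e := ((stalkResS_germ f ξ G (V := (Nbhd.nb ξ).obj i) (Nbhd.zb ξ i) _).symm.trans hpq).trans
      (stalkResS_germ f ξ G (V := (Nbhd.nb ξ).obj i) (Nbhd.zb ξ i) _)
    obtain ⟨k, m, hk⟩ := hi i _ _ e
    have hw := fun x : ((EtDesc.pushSh f).obj G).obj.obj (op ((Nbhd.nb ξ).obj i)) =>
      (Scheme.pointSmallEtale ξ).toPresheafFiber_w_apply ((Nbhd.nb ξ).map m) (Nbhd.zb ξ k)
        ((EtDesc.pushSh f).obj G).obj x
    have h1 := hw (((EtDesc.pushSh f).obj G).obj.map (g ≫ a).op s)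
    have h2 := hw (((EtDesc.pushSh f).obj G).obj.map (g ≫ b).op t)
    rw [Nbhd.zb_map] at h1 h2
    exact h1.symm.trans ((congrArg _ hk).trans h2)
  · obtain ⟨i, s, rfl⟩ := hs σ
    exact ⟨germ ξ ((EtDesc.pushSh f).obj G) ((Nbhd.nb ξ).obj i) (Nbhd.zb ξ i) s,
      stalkResS_germ f ξ G (V := (Nbhd.nb ξ).obj i) _ s⟩

end Res

variable {X Y X' Y' : Scheme.{u}} (f : X ⟶ Y) (g : Y' ⟶ Y) (f' : X' ⟶ Y') (g' : X' ⟶ X)

/-- The base change map on the image of a section of `f_* F`. -/
theorem baseChange0Sh_unit (w : g' ≫ f = f' ≫ g) (F : EtDesc.Sh X) (V : Y.Etale)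
    (s : F.obj.obj (op ((EtCoh.bc f).obj V))) :
    (EtBC.baseChange0Sh f g f' g' w F).hom.app (op ((EtCoh.bc g).obj V))
        (pullSect g ((EtDesc.pushSh f).obj F) (U := V) s) =
      ((EtDesc.pullSh g').obj F).obj.map (cMap f g f' g' w V).op
        (pullSect g' F (U := (EtCoh.bc f).obj V) s) := by
  have e := ((EtDesc.adjSh g).homEquiv ((EtDesc.pushSh f).obj F)
    ((EtDesc.pushSh f').obj ((EtDesc.pullSh g').obj F))).apply_symm_apply
      ((EtDesc.pushSh f).map ((EtDesc.adjSh g').unit.app F) ≫ (EtDesc.pushCompSh f g').hom.app _ ≫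
        (EtBC.pushCongrSh w).hom.app _ ≫ (EtDesc.pushCompSh g f').inv.app _)
  rw [Adjunction.homEquiv_unit] at e
  have e2 := congrArg (fun k : (EtDesc.pushSh f).obj F ⟶ (EtDesc.pushSh g).obj
    ((EtDesc.pushSh f').obj ((EtDesc.pullSh g').obj F)) => k.hom.app (op V)) e
  refine (ConcreteCategory.congr_hom e2 s).trans ?_
  unfold cMap
  rw [op_comp, op_comp, Functor.map_comp_apply, Functor.map_comp_apply]
  rfl

section Stalk

variable {Ω : Type u} [Field Ω] [IsSepClosed Ω] (η' : Spec (CommRingCat.of Ω) ⟶ Y')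
variable [IsProper f] [IsProper f']

/-- The comparison of the sections on the two geometric fibres. -/
noncomputable def cmpFibreSh (h : IsPullback g' f' f g) (F : EtDesc.Sh X)
    (σ : ((EtDesc.pullSh (pullback.fst f (η' ≫ g))).obj F).obj.obj
      (op ((EtCoh.bc (pullback.fst f (η' ≫ g))).obj (EtCoh.top X)))) :
    ((EtDesc.pullSh (pullback.fst f' η')).obj ((EtDesc.pullSh g').obj F)).obj.obj
      (op ((EtCoh.bc (pullback.fst f' η')).obj (EtCoh.top X'))) :=
  (EtDesc.pullVia _ _ _ rfl F).inv.hom.app _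
    (((EtDesc.pullSh (pullback.fst f' η' ≫ g')).obj F).obj.map
      ((EtCore.bcTopIsTerminal (pullback.fst f' η' ≫ g')).from
        ((EtCoh.bc (pullback.fst f' η')).obj (EtCoh.top X'))).op
      (transfer (fibreIso f g f' g' η' h).hom (pullback.fst f (η' ≫ g)) (pullback.fst f' η' ≫ g')
        (fibreIso_fst f g f' g' η' h) F (EtCoh.top X) σ))

theorem cmpFibreSh_bijective (h : IsPullback g' f' f g) (F : EtDesc.Sh X) :
    Function.Bijective (cmpFibreSh f g f' g' η' h F) := by
  have h2 : Function.Bijective ((EtDesc.pullVia (pullback.fst f' η') g' _ rfl F).inv.hom.app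
      (op ((EtCoh.bc (pullback.fst f' η')).obj (EtCoh.top X')))) :=
    (isIso_iff_bijective _).1 (inferInstance :
      IsIso (((sheafToPresheaf _ _).map (EtDesc.pullVia (pullback.fst f' η') g' _ rfl F).inv).app
        (op ((EtCoh.bc (pullback.fst f' η')).obj (EtCoh.top X')))))
  let θ : (EtCoh.bc (pullback.fst f' η')).obj (EtCoh.top X') ≅
      (EtCoh.bc (pullback.fst f' η' ≫ g')).obj (EtCoh.top X) :=
    (EtCore.bcTopIsTerminal _).uniqueUpToIso (EtCore.bcTopIsTerminal _)
  have h3 := bijective_map_iso ((EtDesc.pullSh (pullback.fst f' η' ≫ g')).obj F).obj θ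
  haveI : CompactSpace (pullback f (η' ≫ g) : Scheme.{u}) :=
    QuasiCompact.compactSpace_of_compactSpace (pullback.snd f (η' ≫ g))
  haveI : QuasiSeparatedSpace (pullback f (η' ≫ g) : Scheme.{u}) :=
    quasiSeparatedSpace_of_quasiSeparated (pullback.snd f (η' ≫ g))
  have h4 := bijective_transfer (fibreIso f g f' g' η' h).hom (pullback.fst f (η' ≫ g))
    (pullback.fst f' η' ≫ g') (fibreIso_fst f g f' g' η' h) F
    (bijective_pullSect_iso (fibreIso f g f' g' η' h) _)
  exact h2.comp (h3.comp h4)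

set_option maxHeartbeats 1000000 in
theorem stalkResS_baseChange0Sh (h : IsPullback g' f' f g) (F : EtDesc.Sh X)
    (a : ((Scheme.pointSmallEtale (η' ≫ g)).sheafFiber (A := Type (u + 1))).obj ((EtDesc.pushSh f).obj F)) :
    stalkResS f' η' ((EtDesc.pullSh g').obj F)
        (((Scheme.pointSmallEtale η').sheafFiber (A := Type (u + 1))).map (EtBC.baseChange0Sh f g f' g' h.w F)
          ((stalkPullShIso g η').inv.app ((EtDesc.pushSh f).obj F) a)) =
      cmpFibreSh f g f' g' η' h F (stalkResS f (η' ≫ g) F a) := by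
  obtain ⟨V, v, s, rfl⟩ := germ_surjective (η' ≫ g) ((EtDesc.pushSh f).obj F) a
  let z := (fiberCompIso g η').inv.app V v
  refine (congrArg (fun x => stalkResS f' η' _
    (((Scheme.pointSmallEtale η').sheafFiber (A := Type (u + 1))).map _ x))
    (stalkPullShIso_inv_germ g η' ((EtDesc.pushSh f).obj F) V v s)).trans ?_
  refine (congrArg (stalkResS f' η' _) (germ_naturality η' (EtBC.baseChange0Sh f g f' g' h.w F)
    ((EtCoh.bc g).obj V) z _)).trans ?_
  refine (stalkResS_germ f' η' _ z _).trans ?_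
  refine (congrArg (resS f' η' ((EtDesc.pullSh g').obj F) z)
    (baseChange0Sh_unit f g f' g' h.w F V s)).trans ?_
  rw [stalkResS_germ]
  unfold resS cmpFibreSh
  rw [pullSect_map, ← Functor.map_comp_apply, ← op_comp]
  let b := pullback.fst f' η' ≫ g'
  let jb : (EtCoh.bc b).obj (EtCoh.top X) ⟶ (EtCoh.bc b).obj ((EtCoh.bc f).obj V) :=
    MorphismProperty.Over.homMk (pullback.lift
      (((EtCoh.bc b).obj (EtCoh.top X)).hom ≫ (fibreIso f g f' g' η' h).hom ≫
        pullback.lift (pullback.snd f (η' ≫ g) ≫ v.left) (pullback.fst f (η' ≫ g))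
          ((Category.assoc _ _ _).trans ((congrArg (_ ≫ ·) (Over.w v)).trans pullback.condition.symm)))
      ((EtCoh.bc b).obj (EtCoh.top X)).hom ((Category.assoc _ _ _).trans (congrArg (_ ≫ ·)
        ((Category.assoc _ _ _).trans ((congrArg (_ ≫ ·) (pullback.lift_snd _ _ _)).trans
          (fibreIso_fst f g f' g' η' h))))))
      (pullback.lift_snd _ _ _) trivial
  let θ := (EtCore.bcTopIsTerminal b).from ((EtCoh.bc (pullback.fst f' η')).obj (EtCoh.top X'))
  have hT : transfer (fibreIso f g f' g' η' h).hom (pullback.fst f (η' ≫ g)) b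
      (fibreIso_fst f g f' g' η' h) F (EtCoh.top X) (resS f (η' ≫ g) F v s) =
      ((EtDesc.pullSh b).obj F).obj.map jb.op (pullSect b F s) := by
    refine (transfer_map_compat (fibreIso f g f' g' η' h).hom _ b (fibreIso_fst f g f' g' η' h) F
      (jz f (η' ≫ g) v) jb ?_ _).trans
      (congrArg _ (transfer_pullSect (fibreIso f g f' g' η' h).hom _ b (fibreIso_fst f g f' g' η' h) F s))
    refine compat_of_graph (fibreIso f g f' g' η' h).hom _ b (fibreIso_fst f g f' g' η' h) _ _
      (pullback.lift (pullback.snd f (η' ≫ g) ≫ v.left) (pullback.fst f (η' ≫ g))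
        ((Category.assoc _ _ _).trans ((congrArg (_ ≫ ·) (Over.w v)).trans pullback.condition.symm)))
      _ ?_ (pullback.lift_fst _ _ _) rfl
    refine (pullback.lift_fst _ _ _).trans (pullback.hom_ext ?_ ?_)
    · exact (pullback.lift_fst _ _ _).trans ((congrArg (_ ≫ ·) (pullback.lift_fst _ _ _)).symm.trans
        (Category.assoc _ _ _).symm)
    · exact (pullback.lift_snd _ _ _).trans ((congrArg (_ ≫ ·) (pullback.lift_snd _ _ _)).symm.trans
        (Category.assoc _ _ _).symm)
  refine Eq.trans ?_ (congrArg (fun x => (EtDesc.pullVia _ _ _ rfl F).inv.hom.app _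
      (((EtDesc.pullSh b).obj F).obj.map θ.op x)) hT.symm)
  refine Eq.trans ?_ (congrArg (fun x => (EtDesc.pullVia _ _ _ rfl F).inv.hom.app _ x)
    (Functor.map_comp_apply ((EtDesc.pullSh b).obj F).obj jb.op θ.op (pullSect b F s)))
  rw [← op_comp]
  refine map_pullSect_pullSect (pullback.fst f' η') g' b rfl F
    (jz f' η' z ≫ (EtCoh.bc (pullback.fst f' η')).map (cMap f g f' g' h.w V)) (θ ≫ jb) ?_ s
  refine bc_bc_bc_ext f f' g' η' ?_
  show ((((θ ≫ jb).left ≫ (tm (pullback.fst f' η') g' b rfl ((EtCoh.bc f).obj V)).left) ≫ pullback.fst _ _) ≫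
      pullback.fst _ _) ≫ pullback.fst V.hom f =
    ((((jz f' η' z).left ≫ ((EtCoh.bc (pullback.fst f' η')).map (cMap f g f' g' h.w V)).left) ≫
      pullback.fst _ _) ≫ pullback.fst _ _) ≫ pullback.fst V.hom f
  refine Eq.trans (congrArg (· ≫ pullback.fst V.hom f) ((Category.assoc _ _ _).trans
    ((Category.assoc _ _ _).trans ((congrArg (_ ≫ ·) ((Category.assoc _ _ _).symm.trans
      (tm_fst_fst _ _ _ _ _))).trans ((Category.assoc _ _ _).trans (congrArg (θ.left ≫ ·) (pullback.lift_fst _ _ _))))))) ?_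
  refine Eq.trans ?_ (Eq.symm ((congrArg (fun k => (k ≫ pullback.fst _ _) ≫ pullback.fst V.hom f)
    ((Category.assoc _ _ _).trans ((congrArg (_ ≫ ·) (bc_map_fst _ (cMap f g f' g' h.w V))).trans
      (Category.assoc _ _ _).symm))).trans ((Category.assoc _ _ _).trans ((Category.assoc _ _ _).trans
        (congrArg (_ ≫ ·) (cMap_fst_fst f g f' g' h.w V))))))
  refine Eq.trans ?_ (Eq.symm ((Category.assoc _ _ _).symm.trans ((congrArg (· ≫ pullback.fst V.hom g)
    (jz_fst_fst f' η' z)).trans ((Category.assoc _ _ _).trans (congrArg (_ ≫ ·) ((Category.assoc _ _ _).trans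
      (congrArg (_ ≫ ·) (fiberCompIso_inv_left g η' V v))))))))
  refine (congrArg (· ≫ pullback.fst V.hom f) ((Category.assoc _ _ _).symm.trans
    (congrArg (· ≫ (fibreIso f g f' g' η' h).hom ≫ _) (Over.w θ.hom)))).trans ?_
  refine (Category.assoc _ _ _).trans (congrArg (_ ≫ ·) ?_)
  refine (Category.assoc _ _ _).trans ((congrArg (_ ≫ ·) (pullback.lift_fst _ _ _)).trans ?_)
  exact (Category.assoc _ _ _).symm.trans (congrArg (· ≫ v.left) (fibreIso_snd f g f' g' η' h))

theorem bijective_stalk_baseChange0Sh (h : IsPullback g' f' f g) (F : EtDesc.Sh X) :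
    Function.Bijective (((Scheme.pointSmallEtale η').sheafFiber (A := Type (u + 1))).map
      (EtBC.baseChange0Sh f g f' g' h.w F)) := by
  have hI : Function.Bijective ((stalkPullShIso g η').inv.app ((EtDesc.pushSh f).obj F)) :=
    (isIso_iff_bijective _).1 inferInstance
  refine (Function.Bijective.of_comp_iff _ hI).1 ?_
  refine (Function.Bijective.of_comp_iff' (stalkResS_bijective f' η' ((EtDesc.pullSh g').obj F)) _).1 ?_
  convert (cmpFibreSh_bijective f g f' g' η' h F).comp (stalkResS_bijective f (η' ≫ g) F) using 1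
  exact funext (stalkResS_baseChange0Sh f g f' g' η' h F)

end Stalk

/-- Proper base change for sheaves of sets. -/
theorem isIso_baseChange0Sh [IsProper f] (h : IsPullback g' f' f g) (F : EtDesc.Sh X) :
    IsIso (EtBC.baseChange0Sh f g f' g' h.w F) := by
  haveI : IsProper f' := MorphismProperty.of_isPullback (P := @IsProper) h ‹_›
  refine isIso_of_stalkSh _ fun y => ?_
  let η' : Spec (CommRingCat.of (AlgebraicClosure (Y'.residueField y))) ⟶ Y' :=
    (Scheme.SpecToEquivOfField (AlgebraicClosure (Y'.residueField y)) Y').symm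
      ⟨y, CommRingCat.ofHom (algebraMap (Y'.residueField y) _)⟩
  exact ⟨_, _, inferInstance, η', by simp [η'], bijective_stalk_baseChange0Sh f g f' g' η' h F⟩

end Groth.Agent.H11PBCSet
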